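import Groth.Prelude.Def_FSRel
import Mathlib

/-! Completion of a finite algebra over a semilocal ring. -/

universe u
set_option autoImplicit false
set_option backward.isDefEq.respectTransparency false
set_option linter.style.haveILetI false

open TensorProduct

noncomputable section

namespace Groth.Agent.SemiLocalCompl

variable {A₀ A : Type u} [CommRing A₀] [CommRing A] [Algebra A₀ A]

theorem map_jacobson_le [Module.Finite A₀ A] :
    (Ideal.jacobson (⊥ : Ideal A₀)).map (algebraMap A₀ A) ≤ Ideal.jacobson (⊥ : Ideal A) := by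
  refine Ideal.map_le_iff_le_comap.mpr fun x hx => Ideal.mem_sInf.mpr fun {m : Ideal _} hm => ?_
  haveI : m.IsMaximal := hm.2
  exact Ideal.mem_sInf.mp hx (I := m.comap _)
    ⟨bot_le, Ideal.isMaximal_comap_of_isIntegral_of_isMaximal m⟩

theorem exists_pow_le [IsNoetherianRing A₀] [Finite (MaximalSpectrum A₀)] [Module.Finite A₀ A] :
    ∃ N : ℕ, 0 < N ∧ (Ideal.jacobson (⊥ : Ideal A)) ^ N ≤ (Ideal.jacobson (⊥ : Ideal A₀)).map (algebraMap A₀ A) := by
  classical
  let J₀ := Ideal.jacobson (⊥ : Ideal A₀)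
  let I := J₀.map (algebraMap A₀ A)
  haveI : IsArtinianRing (A₀ ⧸ J₀) := by
    rw [isArtinianRing_iff_krullDimLE_zero, Ring.krullDimLE_zero_iff]
    intro P hP
    haveI := Fintype.ofFinite (MaximalSpectrum A₀)
    have hle : (Finset.univ : Finset (MaximalSpectrum A₀)).inf MaximalSpectrum.asIdeal ≤
        P.comap (Ideal.Quotient.mk J₀) := by
      intro x hx
      have hx0 : x ∈ J₀ := Ideal.mem_sInf.mpr fun {m : Ideal _} hm => by
        have := Finset.inf_le (f := MaximalSpectrum.asIdeal) (Finset.mem_univ ⟨m, hm.2⟩) hx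
        exact this
      show Ideal.Quotient.mk J₀ x ∈ P
      rw [Ideal.Quotient.eq_zero_iff_mem.mpr hx0]
      exact zero_mem _
    haveI : (P.comap (Ideal.Quotient.mk J₀)).IsPrime := Ideal.IsPrime.comap _
    obtain ⟨m, -, hm⟩ := (Ideal.IsPrime.inf_le' (inferInstance)).mp hle
    have hmeq := m.isMaximal.eq_of_le (Ideal.IsPrime.ne_top inferInstance) hm
    have hmax : (P.comap (Ideal.Quotient.mk J₀)).IsMaximal := hmeq ▸ m.isMaximal
    rw [← Ideal.map_comap_of_surjective _ Ideal.Quotient.mk_surjective P]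
    exact (Ideal.map_eq_top_or_isMaximal_of_surjective _ Ideal.Quotient.mk_surjective hmax).resolve_left (by
      rw [Ideal.map_comap_of_surjective _ Ideal.Quotient.mk_surjective P]; exact hP.ne_top)
  haveI : Module.Finite (A₀ ⧸ J₀) (A ⧸ I) := Module.Finite.of_restrictScalars_finite A₀ _ _
  haveI : IsArtinianRing (A ⧸ I) := IsArtinianRing.of_finite (A₀ ⧸ J₀) _
  obtain ⟨N, hN⟩ := IsArtinianRing.isNilpotent_jacobson_bot (R := A ⧸ I)
  refine ⟨N + 1, N.succ_pos, ?_⟩
  have hle : (Ideal.jacobson (⊥ : Ideal A)).map (Ideal.Quotient.mk I) ≤ Ideal.jacobson (⊥ : Ideal (A ⧸ I)) := by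
    refine Ideal.map_le_iff_le_comap.mpr fun x hx => Ideal.mem_sInf.mpr fun {m : Ideal _} hm => ?_
    haveI : m.IsMaximal := hm.2
    exact Ideal.mem_sInf.mp hx (I := m.comap _)
      ⟨bot_le, Ideal.comap_isMaximal_of_surjective _ Ideal.Quotient.mk_surjective⟩
  refine le_of_le_of_eq ((Ideal.map_eq_bot_iff_le_ker _).mp (le_bot_iff.mp ?_)) (Ideal.mk_ker (I := I))
  rw [Ideal.map_pow]
  refine (Ideal.pow_le_pow_right N.le_succ).trans ?_
  exact (Ideal.pow_right_mono hle N).trans hN.le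

variable (A₀ A)

theorem map_pow_le [Module.Finite A₀ A] (n : ℕ) :
    ((Ideal.jacobson (⊥ : Ideal A₀)) ^ n).map (algebraMap A₀ A) ≤ (Ideal.jacobson (⊥ : Ideal A)) ^ n := by
  rw [Ideal.map_pow]
  exact Ideal.pow_right_mono map_jacobson_le n

/-- `Â₀ → Â` -/
def θ [Module.Finite A₀ A] : AdicCompletion (Ideal.jacobson (⊥ : Ideal A₀)) A₀ →ₐ[A₀]
    AdicCompletion (Ideal.jacobson (⊥ : Ideal A)) A :=
  AdicCompletion.liftAlgHom _
    (fun n => (Ideal.quotientMapₐ ((Ideal.jacobson (⊥ : Ideal A)) ^ n) (Algebra.ofId A₀ A)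
      (Ideal.map_le_iff_le_comap.mp (map_pow_le A₀ A n))).comp
      (AdicCompletion.evalₐ (Ideal.jacobson (⊥ : Ideal A₀)) n))
    (fun {m n} hle => AlgHom.ext fun x => by
      obtain ⟨s, rfl⟩ := AdicCompletion.mk_surjective _ _ x
      simp only [AlgHom.comp_apply]
      rw [AdicCompletion.evalₐ_mk, AdicCompletion.evalₐ_mk]
      show Ideal.Quotient.mk _ (algebraMap A₀ A (s n)) = Ideal.Quotient.mk _ (algebraMap A₀ A (s m))
      rw [Ideal.Quotient.eq, ← map_sub]
      refine map_pow_le A₀ A m (Ideal.mem_map_of_mem _ ?_)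
      have h := (AdicCompletion.Ideal.mk_eq_mk _ hle s)
      exact Ideal.Quotient.eq.mp h)

/-- `A ⊗ Â₀ → Â` -/
def Θ [Module.Finite A₀ A] : A ⊗[A₀] AdicCompletion (Ideal.jacobson (⊥ : Ideal A₀)) A₀ →ₐ[A]
    AdicCompletion (Ideal.jacobson (⊥ : Ideal A)) A :=
  Algebra.TensorProduct.lift (Algebra.ofId A _) (θ A₀ A) fun _ _ => Commute.all _ _

theorem bijective_Θ [IsNoetherianRing A₀] [Finite (MaximalSpectrum A₀)] [Module.Finite A₀ A] :
    Function.Bijective (Θ A₀ A) := by
  let J₀ := Ideal.jacobson (⊥ : Ideal A₀)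
  let J := Ideal.jacobson (⊥ : Ideal A)
  obtain ⟨N, hN, hpow⟩ := exists_pow_le (A₀ := A₀) (A := A)
  have hin : ∀ (n : ℕ) (x : A), x ∈ J ^ (N * n) → x ∈ (J₀ ^ n • ⊤ : Submodule A₀ A) := by
    intro n x hx
    rw [Ideal.smul_top_eq_map, Submodule.restrictScalars_mem, Ideal.map_pow]
    exact Ideal.pow_right_mono hpow n (by rwa [← pow_mul])
  have hout : ∀ (n : ℕ) (x : A), x ∈ (J₀ ^ n • ⊤ : Submodule A₀ A) → x ∈ J ^ n := by
    intro n x hx
    rw [Ideal.smul_top_eq_map, Submodule.restrictScalars_mem] at hx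
    exact map_pow_le A₀ A n hx
  let e := (TensorProduct.comm A₀ A (AdicCompletion J₀ A₀)).trans
    ((AdicCompletion.ofTensorProductEquivOfFiniteNoetherian J₀ A).restrictScalars A₀)
  have key : ∀ z n (a : A), Submodule.Quotient.mk a = (e z).val n →
      AdicCompletion.evalₐ J n (Θ A₀ A z) = Ideal.Quotient.mk _ a := by
    intro z n
    induction z with
    | zero =>
      intro a ha
      rw [map_zero, map_zero, eq_comm, Ideal.Quotient.eq_zero_iff_mem]
      rw [map_zero, AdicCompletion.val_zero_apply, Submodule.Quotient.mk_eq_zero] at ha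
      exact hout n a ha
    | add x y hx hy =>
      intro a ha
      obtain ⟨ax, hax⟩ := Submodule.Quotient.mk_surjective _ ((e x).val n)
      obtain ⟨ay, hay⟩ := Submodule.Quotient.mk_surjective _ ((e y).val n)
      rw [map_add, map_add, hx ax hax, hy ay hay, ← map_add, Ideal.Quotient.eq]
      refine hout n _ ((Submodule.Quotient.eq _).mp ?_)
      rw [ha, map_add, AdicCompletion.val_add_apply, Submodule.Quotient.mk_add, hax, hay]
    | tmul b r =>
      intro a ha
      obtain ⟨s, rfl⟩ := AdicCompletion.mk_surjective _ _ r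
      have h1 : (e (b ⊗ₜ AdicCompletion.mk J₀ A₀ s)).val n = Submodule.Quotient.mk (s n • b) := by
        show (AdicCompletion.ofTensorProductEquivOfFiniteNoetherian J₀ A
          (AdicCompletion.mk J₀ A₀ s ⊗ₜ b)).val n = _
        rw [AdicCompletion.ofTensorProductEquivOfFiniteNoetherian_apply, AdicCompletion.ofTensorProduct_tmul,
          AdicCompletion.smul_eval]
        rfl
      have h2 : AdicCompletion.evalₐ J n (Θ A₀ A (b ⊗ₜ AdicCompletion.mk J₀ A₀ s)) =
          Ideal.Quotient.mk _ (b * algebraMap A₀ A (s n)) := by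
        rw [Θ, Algebra.TensorProduct.lift_tmul, map_mul, map_mul]
        congr 1
      rw [h2, Ideal.Quotient.eq, mul_comm, ← Algebra.smul_def]
      exact hout n _ ((Submodule.Quotient.eq _).mp (by rw [← h1, ← ha]))
  constructor
  · refine (injective_iff_map_eq_zero _).mpr fun z hz => e.injective ?_
    rw [map_zero]
    refine AdicCompletion.ext fun n => ?_
    obtain ⟨a, ha⟩ := Submodule.Quotient.mk_surjective _ ((e z).val (N * n))
    have h := key z (N * n) a ha
    rw [hz, map_zero, eq_comm, Ideal.Quotient.eq_zero_iff_mem] at h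
    rw [AdicCompletion.val_zero_apply, ← AdicCompletion.transitionMap_comp_eval_apply J₀ A
      (Nat.le_mul_of_pos_left n hN) (e z)]
    show AdicCompletion.transitionMap J₀ A _ ((e z).val (N * n)) = 0
    rw [← ha]
    show Submodule.Quotient.mk a = 0
    exact (Submodule.Quotient.mk_eq_zero _).mpr (hin n a h)
  · intro y
    obtain ⟨s, rfl⟩ := AdicCompletion.mk_surjective _ _ y
    have hs : ∀ {m n}, m ≤ n → s n - s m ∈ J ^ m := fun {m n} hmn =>
      Ideal.Quotient.eq.mp (AdicCompletion.Ideal.mk_eq_mk _ hmn s)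
    let w : AdicCompletion J₀ A := ⟨fun n => Submodule.Quotient.mk (s (N * n)), fun {m n} hmn => by
      show Submodule.Quotient.mk (s (N * n)) = Submodule.Quotient.mk (s (N * m))
      exact (Submodule.Quotient.eq _).mpr (hin m _ (hs (Nat.mul_le_mul_left N hmn)))⟩
    refine ⟨e.symm w, AdicCompletion.ext_evalₐ fun n => ?_⟩
    rw [key (e.symm w) n (s (N * n)) (by rw [e.apply_symm_apply]), AdicCompletion.evalₐ_mk, Ideal.Quotient.eq]
    exact hs (Nat.le_mul_of_pos_left n hN)

theorem isFormallySmoothRel [IsNoetherianRing A₀] [Finite (MaximalSpectrum A₀)] [Module.Finite A₀ A] :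
    EGA41.IsFormallySmoothRel A₀ A (AdicCompletion (Ideal.jacobson (⊥ : Ideal A)) A) := by
  intro C _ _ _ _ Jc _ u₀ hu
  obtain ⟨u, hu⟩ := hu
  let eΘ := AlgEquiv.ofBijective (Θ A₀ A) (bijective_Θ A₀ A)
  let v0 : A ⊗[A₀] AdicCompletion (Ideal.jacobson (⊥ : Ideal A₀)) A₀ →ₐ[A] C :=
    Algebra.TensorProduct.lift (Algebra.ofId A C) (u.comp (θ A₀ A)) fun _ _ => Commute.all _ _
  refine ⟨v0.comp eΘ.symm.toAlgHom, AlgHom.ext fun y => ?_⟩
  obtain ⟨z, rfl⟩ := (bijective_Θ A₀ A).2 y
  show Ideal.Quotient.mk Jc (v0 (eΘ.symm (eΘ z))) = u₀ (Θ A₀ A z)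
  rw [eΘ.symm_apply_apply]
  induction z with
  | zero => simp
  | add x y hx hy => simp only [map_add, hx, hy]
  | tmul a r =>
    have h1 : Ideal.Quotient.mk Jc (u (θ A₀ A r)) = u₀ (θ A₀ A r) := AlgHom.congr_fun hu _
    simp only [v0, Θ, Algebra.TensorProduct.lift_tmul, map_mul, AlgHom.comp_apply, h1]
    congr 1
    exact (u₀.commutes a).symm

end Groth.Agent.SemiLocalCompl
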